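import Groth.Agent.Log15.Piece
import Groth.Prelude.Def_LogDiff
import Mathlib.Data.Fintype.BigOperators

/-!
# Exterior layers of a logarithmic λ-connection
-/

universe v u

open TensorProduct

set_option linter.unusedSectionVars false

namespace Log15

variable {A : Type v} {B L E : Type u} [CommRing A] [CommRing B]
  [Algebra A B] [AddCommGroup L] [Module B L] [Module A L] [IsScalarTower A B L]
  [AddCommGroup E] [Module B E] [Module A E] [IsScalarTower A B E]
variable {δ : Derivation A B L} {n : ℕ} {t : Fin n → B} {ω : Module.Basis (Fin n) B L}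
  {lam : B} {nabla : E →ₗ[A] E ⊗[B] L}

lemma coordE_tmul (p : ℕ) (K : Set.powersetCard (Fin n) p) (c : E) (η : ↥(⋀[B]^p L)) :
    LogConn.coordE ω p K (c ⊗ₜ[B] η) = (ω.exteriorPower p).coord K η • c := rfl

lemma card_coe (p : ℕ) (K : Set.powersetCard (Fin n) p) : (K : Finset (Fin n)).card = p := K.2

lemma exists_coord_eq (p : ℕ) (K : Set.powersetCard (Fin n) p) (σ : Fin p → Fin n)
    (h : (ω.exteriorPower p).coord K (exteriorPower.ιMulti B p (ω ∘ σ)) ≠ 0) :
    Function.Injective σ ∧ Finset.univ.image σ = (K : Finset (Fin n)) := by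
  classical
  have hinj : Function.Injective σ := by
    intro a b hab
    by_contra hne
    exact h (by rw [(exteriorPower.ιMulti B p).map_eq_zero_of_eq _ (congrArg (⇑ω) hab) hne,
      map_zero])
  refine ⟨hinj, ?_⟩
  have hsub : (K : Finset (Fin n)) ⊆ Finset.univ.image σ := by
    intro x hx
    by_contra hxσ
    obtain ⟨j, rfl⟩ := (Set.powersetCard.mem_range_ofFinEmbEquiv_symm_iff_mem K x).mpr hx
    apply h
    rw [exteriorPower.basis_coord, exteriorPower.ιMultiDual_apply_ιMulti]
    refine Matrix.det_eq_zero_of_column_eq_zero j fun i => ?_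
    rw [Matrix.of_apply, Function.comp_apply, Module.Basis.coord_apply, Module.Basis.repr_self,
      Finsupp.single_eq_of_ne]
    intro he
    exact hxσ (Finset.mem_image.mpr ⟨i, Finset.mem_univ i, he.symm⟩)
  exact (Finset.eq_of_subset_of_card_le hsub
    (Finset.card_image_le.trans (by simp [card_coe p K]))).symm

lemma coordE_comp_mem (p : ℕ) (K : Set.powersetCard (Fin n) p) (S : Submodule B E) (c : E)
    (σ : Fin p → Fin n)
    (h : Function.Injective σ → Finset.univ.image σ = (K : Finset (Fin n)) → c ∈ S) :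
    LogConn.coordE ω p K (c ⊗ₜ[B] exteriorPower.ιMulti B p (ω ∘ σ)) ∈ S := by
  rw [coordE_tmul]
  by_cases hz : (ω.exteriorPower p).coord K (exteriorPower.ιMulti B p (ω ∘ σ)) = 0
  · rw [hz, zero_smul]; exact S.zero_mem
  · exact S.smul_mem _ (h (exists_coord_eq p K σ hz).1 (exists_coord_eq p K σ hz).2)

lemma coordE_ιMulti_mem (p : ℕ) (K : Set.powersetCard (Fin n) p) (S : Submodule B E) (c : E)
    (v : Fin p → L) (a : Fin p → Fin n → B) (hv : ∀ k, v k = ∑ i, a k i • ω i)
    (h : ∀ σ : Fin p → Fin n, Function.Injective σ →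
      Finset.univ.image σ = (K : Finset (Fin n)) → (∏ k, a k (σ k)) • c ∈ S) :
    LogConn.coordE ω p K (c ⊗ₜ[B] exteriorPower.ιMulti B p v) ∈ S := by
  classical
  have hexp : exteriorPower.ιMulti B p v =
      ∑ σ : Fin p → Fin n, (∏ k, a k (σ k)) • exteriorPower.ιMulti B p (ω ∘ σ) := by
    rw [show v = fun k => ∑ i, a k i • ω i from funext hv]
    change (exteriorPower.ιMulti B p).toMultilinearMap _ = _
    rw [MultilinearMap.map_sum]
    refine Finset.sum_congr rfl fun σ _ => ?_
    rw [MultilinearMap.map_smul_univ]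
    rfl
  rw [hexp, TensorProduct.tmul_sum, map_sum]
  refine S.sum_mem fun σ _ => ?_
  rw [← TensorProduct.smul_tmul]
  exact coordE_comp_mem p K S _ σ (h σ)

lemma sum_coordE (p : ℕ) (x : E ⊗[B] ↥(⋀[B]^p L)) :
    ∑ K : Set.powersetCard (Fin n) p,
      LogConn.coordE ω p K x ⊗ₜ[B] (ω.exteriorPower p) K = x := by
  induction x using TensorProduct.induction_on with
  | zero => simp
  | tmul e η =>
    simp only [coordE_tmul, Module.Basis.coord_apply, TensorProduct.smul_tmul]
    rw [← TensorProduct.tmul_sum, (ω.exteriorPower p).sum_repr]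
  | add x y hx hy => simp only [map_add, TensorProduct.add_tmul, Finset.sum_add_distrib, hx, hy]

lemma mem_layer {p : ℕ} {x : E ⊗[B] ↥(⋀[B]^p L)} :
    x ∈ LogConn.layer nabla ω t p ↔ ∀ K : Set.powersetCard (Fin n) p,
      LogConn.coordE ω p K x ∈ LogConn.piece nabla ω t (K : Finset (Fin n)) := by
  simp [LogConn.layer, Submodule.mem_iInf]

lemma basis_eq (p : ℕ) (K : Set.powersetCard (Fin n) p) :
    (ω.exteriorPower p) K =
      exteriorPower.ιMulti B p (ω ∘ ((K : Finset (Fin n)).orderEmbOfFin (card_coe p K))) := by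
  rw [exteriorPower.basis_apply]
  rfl

lemma image_orderEmb (p : ℕ) (K : Set.powersetCard (Fin n) p) :
    Finset.univ.image ((K : Finset (Fin n)).orderEmbOfFin (card_coe p K)) = (K : Finset (Fin n)) :=
  Finset.image_orderEmbOfFin_univ _ _

/-- Any enumeration of `K` gives the basis vector up to sign. -/
lemma exists_basis_eq_smul (p : ℕ) (K : Set.powersetCard (Fin n) p) (σ : Fin p → Fin n)
    (hσ : Function.Injective σ) (him : Finset.univ.image σ = (K : Finset (Fin n))) :
    ∃ u : B, (ω.exteriorPower p) K = u • exteriorPower.ιMulti B p (ω ∘ σ) := by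
  classical
  have hmem : ∀ k, σ k ∈ (K : Finset (Fin n)) := fun k =>
    him ▸ Finset.mem_image.mpr ⟨k, Finset.mem_univ k, rfl⟩
  let f : Fin p → Fin p := fun k =>
    ((K : Finset (Fin n)).orderIsoOfFin (card_coe p K)).symm ⟨σ k, hmem k⟩
  have hf : Function.Injective f := fun a b hab => hσ (by
    have := ((K : Finset (Fin n)).orderIsoOfFin (card_coe p K)).symm.injective hab
    exact congrArg Subtype.val this)
  let π : Equiv.Perm (Fin p) := Equiv.ofBijective f (Finite.injective_iff_bijective.mp hf)
  have hπ : ((K : Finset (Fin n)).orderEmbOfFin (card_coe p K)) ∘ π = σ := by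
    funext k
    change ((K : Finset (Fin n)).orderEmbOfFin (card_coe p K)) (f k) = σ k
    rw [← Finset.coe_orderIsoOfFin_apply]
    simp [f]
  refine ⟨((Equiv.Perm.sign π : ℤ) : B), ?_⟩
  rw [← hπ, ← Function.comp_assoc, AlternatingMap.map_perm, basis_eq]
  rcases Int.units_eq_one_or (Equiv.Perm.sign π) with h | h <;> rw [h] <;> simp

lemma d_ιMulti_comp {Ω : Type u} [AddCommGroup Ω] [Module B Ω] [Module A Ω]
    [IsScalarTower A B Ω] {D : Derivation A B Ω} {ι : Ω →ₗ[B] L}
    {d : ∀ p : ℕ, ↥(⋀[B]^p L) →ₗ[A] ↥(⋀[B]^(p + 1) L)}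
    (hd : LogDiff.IsLogRule D ι (⇑ω) d) (p : ℕ) (σ : Fin p → Fin n) :
    d p (exteriorPower.ιMulti B p (ω ∘ σ)) = 0 := by
  have h := hd p 1 (ω ∘ σ) (fun k => Or.inr ⟨σ k, rfl⟩)
  rw [one_smul] at h
  rw [h]
  exact (exteriorPower.ιMulti B (p + 1)).map_coord_zero 0 (by simp)

lemma wedge_oneEquiv_symm (p : ℕ) (l : L) (v : Fin p → L) :
    Conn.wedge p ((exteriorPower.oneEquiv B L).symm l) (exteriorPower.ιMulti B p v) =
      exteriorPower.ιMulti B (p + 1) (Fin.cons l v) := by
  have h1 : (exteriorPower.oneEquiv B L).symm l = exteriorPower.ιMulti B 1 (fun _ => l) := by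
    rw [LinearEquiv.symm_apply_eq, exteriorPower.oneEquiv_ιMulti]
  apply Subtype.ext
  rw [Conn.wedge_apply_coe, h1]
  simp only [exteriorPower.ιMulti_apply_coe]
  rw [ExteriorAlgebra.ιMulti_succ_apply (Fin.cons l v : Fin (p + 1) → L),
    ExteriorAlgebra.ιMulti_succ_apply (fun _ : Fin 1 => l)]
  simp [Matrix.vecTail, ExteriorAlgebra.ιMulti_zero_apply]

variable {d : ∀ p : ℕ, ↥(⋀[B]^p L) →ₗ[A] ↥(⋀[B]^(p + 1) L)}
  {nablas : ∀ p : ℕ, E ⊗[B] ↥(⋀[B]^p L) →ₗ[A] E ⊗[B] ↥(⋀[B]^(p + 1) L)}

lemma nablas_tmul_comp (hr : Conn.IsCxRule nabla (fun p => lam • d p) nablas)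
    (p : ℕ) (c : E) (σ : Fin p → Fin n) (hd0 : d p (exteriorPower.ιMulti B p (ω ∘ σ)) = 0) :
    nablas p (c ⊗ₜ[B] exteriorPower.ιMulti B p (ω ∘ σ)) =
      ∑ i, LogConn.comp nabla ω i c ⊗ₜ[B]
        exteriorPower.ιMulti B (p + 1) (ω ∘ Fin.cons i σ) := by
  rw [hr p c _]
  simp only [LinearMap.smul_apply, hd0, smul_zero, TensorProduct.tmul_zero, add_zero]
  rw [nabla_eq_sum (ω := ω) c, map_sum, map_sum, LinearMap.sum_apply]
  refine Finset.sum_congr rfl fun i _ => ?_
  rw [Conn.toOne_tmul, Conn.twedge_tmul, wedge_oneEquiv_symm, ← Fin.comp_cons]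

lemma comp_comm (hd1 : ∀ j : Fin n, d 1 (exteriorPower.ιMulti B 1 (ω ∘ fun _ => j)) = 0)
    (hint : Conn.IsIntegrable nabla (fun p => lam • d p) nablas) (a b : Fin n) :
    LogConn.comp nabla ω a ∘ₗ LogConn.comp nabla ω b =
      LogConn.comp nabla ω b ∘ₗ LogConn.comp nabla ω a := by
  classical
  wlog hab : a < b generalizing a b
  · rcases lt_or_eq_of_le (not_lt.mp hab) with h | h
    · exact (this b a h).symm
    · subst h; rfl
  ext e
  have hmono : StrictMono ![a, b] := by
    intro x y hxy
    fin_cases x <;> fin_cases y <;> simp at hxy ⊢ <;> exact hab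
  let f : Fin 2 ↪o Fin n := OrderEmbedding.ofStrictMono ![a, b] hmono
  have hsymm : Set.powersetCard.ofFinEmbEquiv.symm (Set.powersetCard.ofFinEmbEquiv f) = f :=
    Equiv.symm_apply_apply _ _
  have h0 := congrArg (LogConn.coordE ω 2 (Set.powersetCard.ofFinEmbEquiv f)) (hint.2 e)
  rw [map_zero, nabla_eq_sum (ω := ω) e, map_sum, map_sum, map_sum] at h0
  have hterm : ∀ j, LogConn.coordE ω 2 (Set.powersetCard.ofFinEmbEquiv f)
      (nablas 1 (Conn.toOne (LogConn.comp nabla ω j e ⊗ₜ[B] ω j))) =
      ∑ i, ((if i = a then 1 else 0) * (if j = b then 1 else 0) -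
        (if i = b then 1 else 0) * (if j = a then 1 else 0) : B) •
          LogConn.comp nabla ω i (LogConn.comp nabla ω j e) := by
    intro j
    have h1 : (exteriorPower.oneEquiv B L).symm (ω j) =
        exteriorPower.ιMulti B 1 (ω ∘ fun _ => j) := by
      rw [LinearEquiv.symm_apply_eq, exteriorPower.oneEquiv_ιMulti]; rfl
    rw [Conn.toOne_tmul, h1, nablas_tmul_comp hint.1 1 _ _ (hd1 j), map_sum]
    refine Finset.sum_congr rfl fun i _ => ?_
    rw [coordE_tmul, exteriorPower.basis_coord, exteriorPower.ιMultiDual_apply_ιMulti,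
      Matrix.det_fin_two, hsymm]
    congr 1
    simp [f, OrderEmbedding.coe_ofStrictMono, Finsupp.single_apply]
  simp only [hterm, sub_smul, Finset.sum_sub_distrib, ite_mul, mul_ite, mul_one, mul_zero,
    one_mul, zero_mul, ite_smul, one_smul, zero_smul] at h0
  simp only [Finset.sum_ite_irrel, Finset.sum_const_zero, Finset.sum_ite_eq', Finset.mem_univ,
    if_true] at h0
  simpa [sub_eq_zero] using h0

lemma nablas_mem_layer (C : Coord δ t ω) (hc : Conn.IsLamConn δ lam nabla)
    (hd0 : ∀ (p : ℕ) (σ : Fin p → Fin n), d p (exteriorPower.ιMulti B p (ω ∘ σ)) = 0)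
    (hint : Conn.IsIntegrable nabla (fun p => lam • d p) nablas)
    {p : ℕ} {x : E ⊗[B] ↥(⋀[B]^p L)} (hx : x ∈ LogConn.layer nabla ω t p) :
    nablas p x ∈ LogConn.layer nabla ω t (p + 1) := by
  classical
  rw [mem_layer] at hx
  rw [← sum_coordE (ω := ω) p x, map_sum]
  refine Submodule.sum_mem _ fun K _ => mem_layer.mpr fun K' => ?_
  rw [basis_eq, nablas_tmul_comp hint.1 p _ _ (hd0 p _), map_sum]
  refine Submodule.sum_mem _ fun i _ => ?_
  refine coordE_comp_mem (p + 1) K' (pieceB C hc _) _ _ fun hinj him => ?_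
  have hi : i ∉ (K : Finset (Fin n)) := by
    rw [← image_orderEmb p K]
    intro h
    obtain ⟨k, -, hk⟩ := Finset.mem_image.mp h
    exact Fin.succ_ne_zero k (hinj (by simpa using hk))
  have hK' : (K' : Finset (Fin n)) = insert i (K : Finset (Fin n)) := by
    rw [← him]
    conv_rhs => rw [← image_orderEmb p K]
    ext x
    simp only [Finset.mem_image, Finset.mem_univ, true_and, Finset.mem_insert]
    constructor
    · rintro ⟨k, rfl⟩
      induction k using Fin.cases with
      | zero => exact Or.inl (by simp)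
      | succ k => exact Or.inr ⟨k, by simp⟩
    · rintro (rfl | ⟨k, rfl⟩)
      · exact ⟨0, by simp⟩
      · exact ⟨k.succ, by simp⟩
  show _ ∈ LogConn.piece nabla ω t _
  rw [hK']
  exact comp_mem_piece_insert C hc (comp_comm (fun j => hd0 1 _) hint) hi (hx K)

lemma span_gens_eq_layer {Ω : Type u} [AddCommGroup Ω] [Module B Ω] [Module A Ω]
    [IsScalarTower A B Ω] {ι : Ω →ₗ[B] L} (bΩ : Module.Basis (Fin n) B Ω)
    (hι : ∀ i, ι (bΩ i) = t i • ω i) (C : Coord δ t ω) (hc : Conn.IsLamConn δ lam nabla)
    (p : ℕ) :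
    (Submodule.span B (LogConn.gens nabla ω ι p)).restrictScalars A =
      LogConn.layer nabla ω t p := by
  classical
  refine le_antisymm (fun x hx => mem_layer.mpr fun K => ?_) fun x hx => ?_
  · induction hx using Submodule.span_induction with
    | zero => simp
    | add a b _ _ ha hb => rw [map_add]; exact add_mem ha hb
    | smul b a _ ha => rw [map_smul]; exact smul_mem_piece C hc b ha
    | mem x hx =>
      obtain ⟨I, hI, e, v, hv1, hv2, rfl⟩ := hx
      choose η hη using hv2
      let a : Fin p → Fin n → B := fun k i =>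
        if hk : (k : ℕ) < I.card then (if I.orderEmbOfFin rfl ⟨k, hk⟩ = i then 1 else 0)
        else bΩ.repr (η k (not_lt.mp hk)) i * t i
      have hv : ∀ k, v k = ∑ i, a k i • ω i := by
        intro k
        by_cases hk : (k : ℕ) < I.card
        · simp only [a, dif_pos hk, hv1 k hk, ite_smul, one_smul, zero_smul,
            Finset.sum_ite_eq, Finset.mem_univ, if_true]
        · simp only [a, dif_neg hk]
          rw [← hη k (not_lt.mp hk)]
          conv_lhs => rw [← bΩ.sum_repr (η k (not_lt.mp hk))]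
          rw [map_sum]
          exact Finset.sum_congr rfl fun i _ => by rw [map_smul, hι, smul_smul]
      refine coordE_ιMulti_mem p K (pieceB C hc _) _ v a hv fun σ hσ him => ?_
      by_cases hgood : ∀ (k : Fin p) (hk : (k : ℕ) < I.card),
          I.orderEmbOfFin rfl ⟨k, hk⟩ = σ k
      · have hIK : I ⊆ (K : Finset (Fin n)) := by
          intro y hy
          rw [← Finset.image_orderEmbOfFin_univ I rfl] at hy
          obtain ⟨j, -, rfl⟩ := Finset.mem_image.mp hy
          rw [← him]
          exact Finset.mem_image.mpr ⟨⟨j, lt_of_lt_of_le j.2 hI⟩, Finset.mem_univ _,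
            (hgood ⟨j, lt_of_lt_of_le j.2 hI⟩ j.2).symm⟩
        let F : Finset (Fin p) := Finset.univ.filter fun k => σ k ∉ I
        have hdvd : (∏ i ∈ (K : Finset (Fin n)) \ I, t i) ∣ ∏ k, a k (σ k) := by
          have hF : F.image σ = (K : Finset (Fin n)) \ I := by
            ext y
            simp only [F, Finset.mem_image, Finset.mem_filter, Finset.mem_univ, true_and,
              Finset.mem_sdiff, ← him]
            constructor
            · rintro ⟨k, hk, rfl⟩; exact ⟨⟨k, rfl⟩, hk⟩
            · rintro ⟨⟨k, rfl⟩, hy⟩; exact ⟨k, hy, rfl⟩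
          rw [← hF, Finset.prod_image (hσ.injOn)]
          refine (Finset.prod_dvd_prod_of_dvd _ (fun k => a k (σ k)) fun k hk => ?_).trans
            (Finset.prod_dvd_prod_of_subset _ _ _ (Finset.filter_subset _ _))
          have hk' : ¬ (k : ℕ) < I.card := fun hlt =>
            (Finset.mem_filter.mp hk).2 (hgood k hlt ▸ Finset.orderEmbOfFin_mem I rfl _)
          simp only [a, dif_neg hk']
          exact dvd_mul_left _ _
        obtain ⟨r, hr⟩ := hdvd
        rw [hr, mul_comm, mul_smul]
        exact Submodule.smul_mem _ _ (prod_smul_mem_piece hIK (compProd_mem_piece I e))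
      · push_neg at hgood
        obtain ⟨k, hk, hne⟩ := hgood
        rw [Finset.prod_eq_zero (Finset.mem_univ k) (by simp [a, dif_pos hk, hne]), zero_smul]
        exact Submodule.zero_mem _
  · rw [mem_layer] at hx
    rw [← sum_coordE (ω := ω) p x]
    refine Submodule.sum_mem _ fun K _ => ?_
    have hK := hx K
    generalize LogConn.coordE ω p K x = c at hK ⊢
    induction hK using piece_induction with
    | zero => simp
    | add a b _ _ ha hb => rw [TensorProduct.add_tmul]; exact add_mem ha hb
    | mem J hJ e =>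
      have hKc : ((K : Finset (Fin n)) \ J).card = p - J.card := by
        rw [Finset.card_sdiff_of_subset hJ, card_coe p K]
      have hJp : J.card ≤ p := (Finset.card_le_card hJ).trans_eq (card_coe p K)
      let σ : Fin p → Fin n := fun k =>
        if hk : (k : ℕ) < J.card then J.orderEmbOfFin rfl ⟨k, hk⟩
        else ((K : Finset (Fin n)) \ J).orderEmbOfFin hKc ⟨k - J.card, by omega⟩
      have hmem : ∀ k, σ k ∈ J ↔ (k : ℕ) < J.card := by
        intro k
        by_cases hk : (k : ℕ) < J.card
        · simp only [σ, dif_pos hk, iff_true, hk]; exact Finset.orderEmbOfFin_mem _ _ _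
        · simp only [σ, dif_neg hk, iff_false, hk]
          exact (Finset.mem_sdiff.mp (Finset.orderEmbOfFin_mem _ hKc _)).2
      have hσ : Function.Injective σ := by
        intro k k' h
        have hiff : (k : ℕ) < J.card ↔ (k' : ℕ) < J.card := by rw [← hmem, ← hmem, h]
        by_cases hk : (k : ℕ) < J.card
        · have hk' := hiff.mp hk
          simp only [σ, dif_pos hk, dif_pos hk'] at h
          have := congrArg Fin.val ((J.orderEmbOfFin rfl).injective h)
          exact Fin.ext this
        · have hk' := fun h' => hk (hiff.mpr h')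
          simp only [σ, dif_neg hk, dif_neg hk'] at h
          have := congrArg Fin.val ((((K : Finset (Fin n)) \ J).orderEmbOfFin hKc).injective h)
          simp only at this
          exact Fin.ext (by omega)
      have him : Finset.univ.image σ = (K : Finset (Fin n)) := by
        refine Finset.eq_of_subset_of_card_le (fun y hy => ?_) ?_
        · obtain ⟨k, -, rfl⟩ := Finset.mem_image.mp hy
          by_cases hk : (k : ℕ) < J.card
          · exact hJ ((hmem k).mpr hk)
          · simp only [σ, dif_neg hk]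
            exact (Finset.mem_sdiff.mp (Finset.orderEmbOfFin_mem _ hKc _)).1
        · rw [Finset.card_image_of_injective _ hσ, card_coe p K]; simp
      obtain ⟨u, hu⟩ := exists_basis_eq_smul (ω := ω) p K σ hσ him
      let v : Fin p → L := fun k => (if σ k ∈ J then (1 : B) else t (σ k)) • ω (σ k)
      have hprod : (∏ i ∈ (K : Finset (Fin n)) \ J, t i) =
          ∏ k, (if σ k ∈ J then (1 : B) else t (σ k)) := by
        rw [← Finset.prod_image (f := fun i => if i ∈ J then (1 : B) else t i) hσ.injOn, him,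
          Finset.prod_ite]
        simp [Finset.sdiff_eq_filter]
      have hv : exteriorPower.ιMulti B p v = (∏ i ∈ (K : Finset (Fin n)) \ J, t i) •
          exteriorPower.ιMulti B p (ω ∘ σ) := by
        rw [hprod]
        exact (exteriorPower.ιMulti B p).toMultilinearMap.map_smul_univ
          (fun k => if σ k ∈ J then (1 : B) else t (σ k)) (fun k => ω (σ k))
      have hgen : LogConn.compProd nabla ω J e ⊗ₜ[B] exteriorPower.ιMulti B p v ∈
          LogConn.gens nabla ω ι p := by
        refine ⟨J, hJp, e, v, fun k hk => ?_, fun k hk => ?_, rfl⟩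
        · simp only [v, if_pos ((hmem k).mpr hk), one_smul]
          simp only [σ, dif_pos hk]
        · refine ⟨bΩ (σ k), ?_⟩
          simp only [v, if_neg (fun h => absurd ((hmem k).mp h) (not_lt.mpr hk))]
          exact hι _
      have := Submodule.smul_mem (Submodule.span B _) u (Submodule.subset_span hgen)
      rw [← TensorProduct.tmul_smul, hv, smul_comm, ← hu, ← TensorProduct.smul_tmul] at this
      exact this

/-! ### Change of admissible coordinates -/

lemma piece_le_piece_of_change (C : Coord δ t ω) (hc : Conn.IsLamConn δ lam nabla)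
    (hcomm : ∀ a b, LogConn.comp nabla ω a ∘ₗ LogConn.comp nabla ω b =
      LogConn.comp nabla ω b ∘ₗ LogConn.comp nabla ω a)
    {t' : Fin n → B} {ω' : Module.Basis (Fin n) B L} (C' : Coord δ t' ω')
    (w : Fin n → B) (hw : ∀ i, t' i = w i * t i)
    (g : Fin n → Fin n → B)
    (hg : ∀ j i, ω'.coord j (ω i) = (if i = j then 1 else 0) + t j * g j i)
    (K : Finset (Fin n)) :
    LogConn.piece nabla ω' t' K ≤ LogConn.piece nabla ω t K := by
  classical
  have hcomp : ∀ j e, LogConn.comp nabla ω' j e = LogConn.comp nabla ω j e +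
      t j • ∑ i, g j i • LogConn.comp nabla ω i e := by
    intro j e
    change Conn.along nabla (ω'.coord j) e = _
    rw [Conn.along_apply]
    conv_lhs => rw [nabla_eq_sum (ω := ω) e]
    simp only [map_sum, TensorProduct.map_tmul, LinearMap.id_apply, TensorProduct.rid_tmul, hg,
      add_smul, Finset.sum_add_distrib, ite_smul, one_smul, zero_smul, Finset.sum_ite_eq',
      Finset.mem_univ, if_true, mul_smul, Finset.smul_sum]
  have main : ∀ (J : Finset (Fin n)) (e : E),
      LogConn.compProd nabla ω' J e ∈ LogConn.piece nabla ω t J := by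
    intro J
    induction J using Finset.induction_on_min with
    | empty =>
      intro e
      have h := compProd_mem_piece (t := t) (nabla := nabla) (ω := ω) ∅ e
      rw [compProd_empty] at h ⊢
      exact h
    | insert j J hlt ih =>
      intro e
      have hj : j ∉ J := fun h' => lt_irrefl _ (hlt j h')
      rw [compProd_insert_min hlt, LinearMap.comp_apply, hcomp]
      refine add_mem (comp_mem_piece_insert_min C hc hlt (ih e))
        (t_smul_mem_piece_insert hj (Submodule.sum_mem _ fun i _ =>
          smul_mem_piece C hc _ (comp_mem_piece C hc hcomm i (ih e))))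
  intro x hx
  induction hx using piece_induction with
  | mem J hJ e =>
    rw [Finset.prod_congr rfl (fun i _ => hw i), Finset.prod_mul_distrib, mul_smul]
    exact smul_mem_piece C hc _ (prod_smul_mem_piece hJ (main J e))
  | zero => exact zero_mem _
  | add a b _ _ ha hb => exact add_mem ha hb

lemma layer_le_layer_of_change (C : Coord δ t ω) (hc : Conn.IsLamConn δ lam nabla)
    (hcomm : ∀ a b, LogConn.comp nabla ω a ∘ₗ LogConn.comp nabla ω b =
      LogConn.comp nabla ω b ∘ₗ LogConn.comp nabla ω a)
    {t' : Fin n → B} {ω' : Module.Basis (Fin n) B L} (C' : Coord δ t' ω')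
    (w : Fin n → B) (hw : ∀ i, t' i = w i * t i)
    (g : Fin n → Fin n → B)
    (hg : ∀ j i, ω'.coord j (ω i) = (if i = j then 1 else 0) + t j * g j i)
    (g' : Fin n → Fin n → B)
    (hg' : ∀ j i, ω.coord j (ω' i) = (if i = j then 1 else 0) + t j * g' j i) (p : ℕ) :
    LogConn.layer nabla ω' t' p ≤ LogConn.layer nabla ω t p := by
  classical
  intro x hx
  rw [mem_layer] at hx
  rw [← sum_coordE (ω := ω') p x]
  refine Submodule.sum_mem _ fun K _ => mem_layer.mpr fun K' => ?_
  have hcK := piece_le_piece_of_change C hc hcomm C' w hw g hg _ (hx K)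
  rw [basis_eq]
  refine coordE_ιMulti_mem p K' (pieceB C hc _) _ _
    (fun k i => ω.coord i (ω' ((K : Finset (Fin n)).orderEmbOfFin (card_coe p K) k))) (fun k => ?_) ?_
  · simp only [Module.Basis.coord_apply, Function.comp_apply, Module.Basis.sum_repr]
  intro σ hσ him
  let F : Finset (Fin p) := Finset.univ.filter fun k => σ k ∉ (K : Finset (Fin n))
  have hdvd : (∏ i ∈ ((K' : Finset (Fin n)) ∪ K) \ K, t i) ∣
      ∏ k, ω.coord (σ k) (ω' ((K : Finset (Fin n)).orderEmbOfFin (card_coe p K) k)) := by
    have hF : F.image σ = ((K' : Finset (Fin n)) ∪ K) \ K := by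
      ext y
      simp only [F, Finset.mem_image, Finset.mem_filter, Finset.mem_univ, true_and,
        Finset.mem_sdiff, Finset.mem_union, ← him]
      constructor
      · rintro ⟨k, hk, rfl⟩; exact ⟨Or.inl ⟨k, rfl⟩, hk⟩
      · rintro ⟨⟨k, rfl⟩ | h, hy⟩
        · exact ⟨k, hy, rfl⟩
        · exact absurd h hy
    rw [← hF, Finset.prod_image hσ.injOn]
    refine (Finset.prod_dvd_prod_of_dvd _
      (fun k => ω.coord (σ k) (ω' ((K : Finset (Fin n)).orderEmbOfFin (card_coe p K) k))) fun k hk => ?_).trans
      (Finset.prod_dvd_prod_of_subset _ _ _ (Finset.filter_subset _ _))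
    rw [hg', if_neg (fun h : (K : Finset (Fin n)).orderEmbOfFin (card_coe p K) k = σ k =>
      (Finset.mem_filter.mp hk).2 (h ▸ Finset.orderEmbOfFin_mem _ _ _)), zero_add]
    exact dvd_mul_right _ _
  obtain ⟨r, hr⟩ := hdvd
  rw [hr, mul_comm, mul_smul]
  refine Submodule.smul_mem _ _ ?_
  exact piece_antitone C hc hcomm Finset.subset_union_left
    (prod_smul_mem_piece Finset.subset_union_right hcK)

end Log15
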