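import Groth.Prelude.Def_W4swconnpcurvhiggsLogLam
import Mathlib.RingTheory.Kaehler.Basic
import Mathlib.Data.List.Perm.Basic

/-!
# Pieces of a logarithmic λ-connection: stability lemmas
-/

universe v u

open TensorProduct

set_option linter.unusedSectionVars false

namespace Log15

variable {A : Type v} {B L E : Type u} [CommRing A] [CommRing B]
  [Algebra A B] [AddCommGroup L] [Module B L] [Module A L] [IsScalarTower A B L]
  [AddCommGroup E] [Module B E] [Module A E] [IsScalarTower A B E]

/-- Coordinates for a log connection: derivations dual to `t` and the log expansion of `δ`. -/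
structure Coord (δ : Derivation A B L) {n : ℕ} (t : Fin n → B)
    (ω : Module.Basis (Fin n) B L) where
  pd : Fin n → Derivation A B B
  pd_t : ∀ i j, pd i (t j) = if i = j then 1 else 0
  δ_eq : ∀ b, δ b = ∑ i, (pd i b * t i) • ω i

noncomputable def coordOfBasis {Ω : Type u} [AddCommGroup Ω] [Module B Ω] [Module A Ω]
    [IsScalarTower A B Ω] (D : Derivation A B Ω) {n : ℕ} (t : Fin n → B)
    (bΩ : Module.Basis (Fin n) B Ω) (hbΩ : ∀ i, bΩ i = D (t i))
    (ω : Module.Basis (Fin n) B L) (ι : Ω →ₗ[B] L) (hι : ∀ i, ι (D (t i)) = t i • ω i) :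
    Coord (ι.compDer D) t ω where
  pd i := (bΩ.coord i).compDer D
  pd_t i j := by
    change bΩ.coord i (D (t j)) = _
    rw [← hbΩ, Module.Basis.coord_apply, Module.Basis.repr_self, Finsupp.single_apply]
    exact if_congr eq_comm rfl rfl
  δ_eq b := by
    change ι (D b) = _
    conv_lhs => rw [← bΩ.sum_repr (D b)]
    rw [map_sum]
    refine Finset.sum_congr rfl fun i _ => ?_
    rw [map_smul, hbΩ, hι, smul_smul]
    rfl

variable {δ : Derivation A B L} {n : ℕ} {t : Fin n → B} {ω : Module.Basis (Fin n) B L}
  {lam : B} {nabla : E →ₗ[A] E ⊗[B] L}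

omit [Module A E] [IsScalarTower A B E] [Module A L] [IsScalarTower A B L] [Algebra A B] in
lemma sum_coord_tmul (ω : Module.Basis (Fin n) B L) (x : E ⊗[B] L) :
    ∑ i, TensorProduct.rid B E (TensorProduct.map LinearMap.id (ω.coord i) x) ⊗ₜ[B] ω i = x := by
  induction x using TensorProduct.induction_on with
  | zero => simp
  | tmul e l =>
    simp only [TensorProduct.map_tmul, LinearMap.id_apply, TensorProduct.rid_tmul,
      Module.Basis.coord_apply]
    simp only [TensorProduct.smul_tmul]
    rw [← TensorProduct.tmul_sum, ω.sum_repr]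
  | add x y hx hy =>
    simp only [map_add, TensorProduct.add_tmul, Finset.sum_add_distrib, hx, hy]

lemma nabla_eq_sum (e : E) : nabla e = ∑ i, LogConn.comp nabla ω i e ⊗ₜ[B] ω i :=
  (sum_coord_tmul ω (nabla e)).symm

lemma comp_smul (C : Coord δ t ω) (hc : Conn.IsLamConn δ lam nabla) (i : Fin n) (b : B) (e : E) :
    LogConn.comp nabla ω i (b • e) =
      b • LogConn.comp nabla ω i e + (lam * (C.pd i b * t i)) • e := by
  unfold LogConn.comp
  rw [Conn.along_apply, Conn.along_apply, hc b e, C.δ_eq]
  simp only [map_add, map_smul, TensorProduct.tmul_sum, TensorProduct.tmul_smul, map_sum,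
    TensorProduct.map_tmul, LinearMap.id_apply, TensorProduct.rid_tmul, Module.Basis.coord_apply,
    Module.Basis.repr_self, Finsupp.single_apply, ite_smul, one_smul, zero_smul, smul_ite,
    smul_zero, Finset.sum_ite_eq', Finset.mem_univ, if_true, smul_smul]

lemma pd_prod_eq_zero (C : Coord δ t ω) {i : Fin n} {S : Finset (Fin n)} (hi : i ∉ S) :
    C.pd i (∏ j ∈ S, t j) = 0 := by
  classical
  induction S using Finset.induction_on with
  | empty => simp
  | insert a S ha ih =>
    rw [Finset.prod_insert ha, Derivation.leibniz, C.pd_t, ih (fun h => hi (Finset.mem_insert_of_mem h)),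
      if_neg (fun h : i = a => hi (h ▸ Finset.mem_insert_self a S))]
    simp

lemma pd_prod_of_mem (C : Coord δ t ω) {i : Fin n} {S : Finset (Fin n)} (hi : i ∈ S) :
    C.pd i (∏ j ∈ S, t j) * t i = ∏ j ∈ S, t j := by
  rw [← Finset.mul_prod_erase S t hi, Derivation.leibniz, C.pd_t, if_pos rfl,
    pd_prod_eq_zero C (Finset.notMem_erase i S)]
  simp [mul_comm]

lemma comp_prod_smul_of_notMem (C : Coord δ t ω) (hc : Conn.IsLamConn δ lam nabla) {i : Fin n}
    {S : Finset (Fin n)} (hi : i ∉ S) (w : E) :
    LogConn.comp nabla ω i ((∏ j ∈ S, t j) • w) = (∏ j ∈ S, t j) • LogConn.comp nabla ω i w := by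
  rw [comp_smul C hc, pd_prod_eq_zero C hi]
  simp

lemma compProd_empty : LogConn.compProd nabla ω ∅ = LinearMap.id := by
  simp [LogConn.compProd]

lemma compProd_insert_min {j : Fin n} {J : Finset (Fin n)} (h : ∀ k ∈ J, j < k) :
    LogConn.compProd nabla ω (insert j J) =
      LogConn.comp nabla ω j ∘ₗ LogConn.compProd nabla ω J := by
  have hj : j ∉ J := fun h' => lt_irrefl _ (h j h')
  unfold LogConn.compProd
  rw [Finset.sort_insert (r := (· ≤ ·)) (fun b hb => (h b hb).le) hj]
  rfl

variable (t) in
/-- Spans of `t_{I∖J} ∇_J s`, `s ∈ S`. -/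
def genPiece (nabla : E →ₗ[A] E ⊗[B] L) (ω : Module.Basis (Fin n) B L) (S : Set E)
    (I : Finset (Fin n)) : Submodule B E :=
  Submodule.span B (⋃ J ∈ I.powerset,
    (fun s => (∏ i ∈ I \ J, t i) • LogConn.compProd nabla ω J s) '' S)

lemma mem_piece_of {I J : Finset (Fin n)} (hJ : J ⊆ I) (e : E) :
    (∏ i ∈ I \ J, t i) • LogConn.compProd nabla ω J e ∈ LogConn.piece nabla ω t I := by
  refine Submodule.mem_iSup_of_mem J (Submodule.mem_iSup_of_mem (Finset.mem_powerset.mpr hJ) ?_)
  exact ⟨e, rfl⟩

lemma compProd_mem_piece (J : Finset (Fin n)) (e : E) :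
    LogConn.compProd nabla ω J e ∈ LogConn.piece nabla ω t J := by
  simpa using mem_piece_of (t := t) (nabla := nabla) (ω := ω) (Finset.Subset.refl J) e

lemma piece_induction {I : Finset (Fin n)}
    {motive : (x : E) → x ∈ LogConn.piece nabla ω t I → Prop}
    (mem : ∀ J (hJ : J ⊆ I) (e : E), motive ((∏ i ∈ I \ J, t i) • LogConn.compProd nabla ω J e)
      (mem_piece_of hJ e))
    (zero : motive 0 (zero_mem _))
    (add : ∀ a b ha hb, motive a ha → motive b hb → motive (a + b) (add_mem ha hb))
    {x : E} (hx : x ∈ LogConn.piece nabla ω t I) : motive x hx := by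
  suffices h : ∃ hx', motive x hx' from h.2
  induction hx using Submodule.iSup_induction' with
  | mem J y hy =>
    induction hy using Submodule.iSup_induction' with
    | mem hJ z hz =>
      obtain ⟨e, rfl⟩ := hz
      exact ⟨_, mem J (Finset.mem_powerset.mp hJ) e⟩
    | zero => exact ⟨_, zero⟩
    | add a b _ _ ha hb => exact ⟨_, add a b _ _ ha.2 hb.2⟩
  | zero => exact ⟨_, zero⟩
  | add a b _ _ ha hb => exact ⟨_, add a b _ _ ha.2 hb.2⟩

lemma prod_smul_mem_piece {I K : Finset (Fin n)} (hK : K ⊆ I) {x : E}
    (hx : x ∈ LogConn.piece nabla ω t K) :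
    (∏ i ∈ I \ K, t i) • x ∈ LogConn.piece nabla ω t I := by
  induction hx using piece_induction with
  | mem J hJ e =>
    rw [smul_smul, ← Finset.prod_union (Finset.disjoint_of_subset_right Finset.sdiff_subset
      Finset.sdiff_disjoint)]
    have : I \ K ∪ K \ J = I \ J := by
      ext a
      simp only [Finset.mem_union, Finset.mem_sdiff]
      constructor
      · rintro (⟨h1, h2⟩ | ⟨h1, h2⟩)
        · exact ⟨h1, fun h => h2 (hJ h)⟩
        · exact ⟨hK h1, h2⟩
      · rintro ⟨h1, h2⟩
        by_cases h : a ∈ K
        · exact Or.inr ⟨h, h2⟩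
        · exact Or.inl ⟨h1, h⟩
    rw [this]
    exact mem_piece_of (hJ.trans hK) e
  | zero => simp
  | add a b _ _ ha hb => rw [smul_add]; exact add_mem ha hb

lemma comp_mem_piece_insert_min (C : Coord δ t ω) (hc : Conn.IsLamConn δ lam nabla) {j : Fin n}
    {J : Finset (Fin n)} (h : ∀ k ∈ J, j < k) {x : E} (hx : x ∈ LogConn.piece nabla ω t J) :
    LogConn.comp nabla ω j x ∈ LogConn.piece nabla ω t (insert j J) := by
  have hj : j ∉ J := fun h' => lt_irrefl _ (h j h')
  induction hx using piece_induction with
  | mem K hK e =>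
    rw [comp_prod_smul_of_notMem C hc (fun h' => hj (Finset.mem_sdiff.mp h').1)]
    have h1 : LogConn.compProd nabla ω (insert j K) e =
        LogConn.comp nabla ω j (LogConn.compProd nabla ω K e) := by
      rw [compProd_insert_min (fun k hk => h k (hK hk))]; rfl
    rw [← h1]
    have h2 : J \ K = insert j J \ insert j K := by
      rw [Finset.insert_sdiff_insert, Finset.sdiff_insert_of_notMem hj]
    rw [h2]
    exact mem_piece_of (Finset.insert_subset_insert j hK) e
  | zero => simp
  | add a b _ _ ha hb => rw [map_add]; exact add_mem ha hb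

lemma t_smul_mem_piece_insert {j : Fin n} {J : Finset (Fin n)} (hj : j ∉ J) {x : E}
    (hx : x ∈ LogConn.piece nabla ω t J) :
    t j • x ∈ LogConn.piece nabla ω t (insert j J) := by
  have h := prod_smul_mem_piece (Finset.subset_insert j J) hx
  rwa [Finset.insert_sdiff_of_notMem _ hj, Finset.sdiff_self, insert_empty_eq,
    Finset.prod_singleton] at h

lemma smul_compProd_mem_piece (C : Coord δ t ω) (hc : Conn.IsLamConn δ lam nabla)
    (J : Finset (Fin n)) : ∀ (b : B) (e : E),
    b • LogConn.compProd nabla ω J e ∈ LogConn.piece nabla ω t J := by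
  classical
  induction J using Finset.induction_on_min with
  | empty =>
    intro b e
    have h := compProd_mem_piece (t := t) (nabla := nabla) (ω := ω) ∅ (b • e)
    rw [compProd_empty] at h ⊢
    exact h
  | insert j J hlt ih =>
    intro b e
    have hj : j ∉ J := fun h' => lt_irrefl _ (hlt j h')
    rw [compProd_insert_min hlt, LinearMap.comp_apply]
    set y := LogConn.compProd nabla ω J e with hy
    have key : b • LogConn.comp nabla ω j y =
        LogConn.comp nabla ω j (b • y) - t j • ((lam * C.pd j b) • y) := by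
      rw [comp_smul C hc, smul_smul]
      rw [show t j * (lam * C.pd j b) = lam * (C.pd j b * t j) by ring]
      abel
    rw [key]
    exact sub_mem (comp_mem_piece_insert_min C hc hlt (ih b e))
      (t_smul_mem_piece_insert hj (ih _ e))

lemma smul_mem_piece (C : Coord δ t ω) (hc : Conn.IsLamConn δ lam nabla) {I : Finset (Fin n)}
    (b : B) {x : E} (hx : x ∈ LogConn.piece nabla ω t I) :
    b • x ∈ LogConn.piece nabla ω t I := by
  induction hx using piece_induction with
  | mem J hJ e =>
    rw [smul_comm]
    exact prod_smul_mem_piece hJ (smul_compProd_mem_piece C hc J b e)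
  | zero => simp
  | add a b' _ _ ha hb => rw [smul_add]; exact add_mem ha hb

/-- The piece as a `B`-submodule. -/
noncomputable def pieceB (C : Coord δ t ω) (hc : Conn.IsLamConn δ lam nabla) (I : Finset (Fin n)) :
    Submodule B E :=
  { (LogConn.piece nabla ω t I).toAddSubmonoid with
    smul_mem' := fun b _ hx => smul_mem_piece C hc b hx }

lemma prod_smul_compProd_mem_genPiece {S : Set E} {I J : Finset (Fin n)} (hJ : J ⊆ I) {s : E}
    (hs : s ∈ S) :
    (∏ i ∈ I \ J, t i) • LogConn.compProd nabla ω J s ∈ genPiece t nabla ω S I := by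
  refine Submodule.subset_span (Set.mem_iUnion₂.mpr ⟨J, Finset.mem_powerset.mpr hJ, ?_⟩)
  exact ⟨s, hs, rfl⟩

lemma genPiece_prod_smul {S : Set E} {I K : Finset (Fin n)} (hK : K ⊆ I) {x : E}
    (hx : x ∈ genPiece t nabla ω S K) :
    (∏ i ∈ I \ K, t i) • x ∈ genPiece t nabla ω S I := by
  induction hx using Submodule.span_induction with
  | mem y hy =>
    obtain ⟨J, hJ, s, hs, rfl⟩ := Set.mem_iUnion₂.mp hy
    have hJK := Finset.mem_powerset.mp hJ
    dsimp only
    rw [smul_smul, ← Finset.prod_union (Finset.disjoint_of_subset_right Finset.sdiff_subset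
      Finset.sdiff_disjoint)]
    have : I \ K ∪ K \ J = I \ J := by
      ext a
      simp only [Finset.mem_union, Finset.mem_sdiff]
      constructor
      · rintro (⟨h1, h2⟩ | ⟨h1, h2⟩)
        · exact ⟨h1, fun h => h2 (hJK h)⟩
        · exact ⟨hK h1, h2⟩
      · rintro ⟨h1, h2⟩
        by_cases h : a ∈ K
        · exact Or.inr ⟨h, h2⟩
        · exact Or.inl ⟨h1, h⟩
    rw [this]
    exact prod_smul_compProd_mem_genPiece (hJK.trans hK) hs
  | zero => simp
  | add a b _ _ ha hb => rw [smul_add]; exact add_mem ha hb
  | smul b a _ ha => rw [smul_comm]; exact Submodule.smul_mem _ b ha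

lemma genPiece_le_piece (C : Coord δ t ω) (hc : Conn.IsLamConn δ lam nabla) (S : Set E)
    (I : Finset (Fin n)) : genPiece t nabla ω S I ≤ pieceB C hc I := by
  refine Submodule.span_le.mpr fun y hy => ?_
  obtain ⟨J, hJ, s, hs, rfl⟩ := Set.mem_iUnion₂.mp hy
  exact mem_piece_of (Finset.mem_powerset.mp hJ) s

lemma compProd_mem_genPiece (C : Coord δ t ω) (hc : Conn.IsLamConn δ lam nabla) {S : Set E}
    (hS : Submodule.span B S = ⊤) (J : Finset (Fin n)) : ∀ e : E,
    LogConn.compProd nabla ω J e ∈ genPiece t nabla ω S J := by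
  classical
  induction J using Finset.induction_on_min with
  | empty =>
    intro e
    rw [compProd_empty, LinearMap.id_apply]
    have he : e ∈ Submodule.span B S := hS ▸ Submodule.mem_top
    refine Submodule.span_le.mpr (fun s hs => ?_) he
    simpa [compProd_empty] using
      prod_smul_compProd_mem_genPiece (t := t) (nabla := nabla) (ω := ω)
        (Finset.Subset.refl (∅ : Finset (Fin n))) hs
  | insert j J hlt ih =>
    intro e
    have hj : j ∉ J := fun h' => lt_irrefl _ (hlt j h')
    rw [compProd_insert_min hlt, LinearMap.comp_apply]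
    generalize hy : LogConn.compProd nabla ω J e = y
    have hy' : y ∈ genPiece t nabla ω S J := hy ▸ ih e
    clear hy
    have hts : ∀ z ∈ genPiece t nabla ω S J,
        t j • z ∈ genPiece t nabla ω S (insert j J) := fun z hz => by
      have h := genPiece_prod_smul (Finset.subset_insert j J) hz
      rwa [Finset.insert_sdiff_of_notMem _ hj, Finset.sdiff_self, insert_empty_eq,
        Finset.prod_singleton] at h
    induction hy' using Submodule.span_induction with
    | mem z hz =>
      obtain ⟨K, hK, s, hs, rfl⟩ := Set.mem_iUnion₂.mp hz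
      have hKJ := Finset.mem_powerset.mp hK
      dsimp only
      rw [comp_prod_smul_of_notMem C hc (fun h' => hj (Finset.mem_sdiff.mp h').1)]
      have h1 : LogConn.compProd nabla ω (insert j K) s =
          LogConn.comp nabla ω j (LogConn.compProd nabla ω K s) := by
        rw [compProd_insert_min (fun k hk => hlt k (hKJ hk))]; rfl
      rw [← h1]
      have h2 : J \ K = insert j J \ insert j K := by
        rw [Finset.insert_sdiff_insert, Finset.sdiff_insert_of_notMem hj]
      rw [h2]
      exact prod_smul_compProd_mem_genPiece (Finset.insert_subset_insert j hKJ) hs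
    | zero => simp
    | add a b _ _ ha hb => rw [map_add]; exact add_mem ha hb
    | smul b a ha' ha =>
      rw [comp_smul C hc]
      refine add_mem (Submodule.smul_mem _ b ha) ?_
      rw [show lam * (C.pd j b * t j) = (lam * C.pd j b) * t j by ring, mul_smul]
      exact Submodule.smul_mem _ _ (hts a ha')

lemma genPiece_restrictScalars (C : Coord δ t ω) (hc : Conn.IsLamConn δ lam nabla) {S : Set E}
    (hS : Submodule.span B S = ⊤) (I : Finset (Fin n)) :
    (genPiece t nabla ω S I).restrictScalars A = LogConn.piece nabla ω t I := by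
  refine le_antisymm (fun x hx => genPiece_le_piece C hc S I hx) fun x hx => ?_
  induction hx using piece_induction with
  | mem J hJ e => exact genPiece_prod_smul hJ (compProd_mem_genPiece C hc hS J e)
  | zero => exact Submodule.zero_mem _
  | add a b _ _ ha hb => exact Submodule.add_mem _ ha hb

/-! ### Consequences of commuting components -/

lemma compProd_insert (hcomm : ∀ a b, LogConn.comp nabla ω a ∘ₗ LogConn.comp nabla ω b =
      LogConn.comp nabla ω b ∘ₗ LogConn.comp nabla ω a) {i : Fin n} {J : Finset (Fin n)}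
    (hi : i ∉ J) :
    LogConn.compProd nabla ω (insert i J) =
      LogConn.comp nabla ω i ∘ₗ LogConn.compProd nabla ω J := by
  have : LeftCommutative (fun (a : Fin n) (φ : E →ₗ[A] E) => LogConn.comp nabla ω a ∘ₗ φ) :=
    ⟨fun a b φ => by rw [← LinearMap.comp_assoc, hcomm, LinearMap.comp_assoc]⟩
  unfold LogConn.compProd
  have hperm : ((insert i J).sort (· ≤ ·)).Perm (i :: J.sort (· ≤ ·)) := by
    refine List.perm_of_nodup_nodup_toFinset_eq (Finset.sort_nodup _ _) ?_ ?_
    · exact List.nodup_cons.mpr ⟨by simpa using hi, Finset.sort_nodup _ _⟩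
    · simp
  rw [hperm.foldr_eq (f := fun (a : Fin n) (φ : E →ₗ[A] E) => LogConn.comp nabla ω a ∘ₗ φ)]
  rfl

lemma comp_compProd_comm (hcomm : ∀ a b, LogConn.comp nabla ω a ∘ₗ LogConn.comp nabla ω b =
      LogConn.comp nabla ω b ∘ₗ LogConn.comp nabla ω a) (i : Fin n) (J : Finset (Fin n)) (e : E) :
    LogConn.comp nabla ω i (LogConn.compProd nabla ω J e) =
      LogConn.compProd nabla ω J (LogConn.comp nabla ω i e) := by
  classical
  induction J using Finset.induction_on_min generalizing e with
  | empty => simp [compProd_empty]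
  | insert j J hlt ih =>
    rw [compProd_insert_min hlt, LinearMap.comp_apply, LinearMap.comp_apply, ← ih]
    exact LinearMap.congr_fun (hcomm i j) _

lemma comp_mem_piece (C : Coord δ t ω) (hc : Conn.IsLamConn δ lam nabla)
    (hcomm : ∀ a b, LogConn.comp nabla ω a ∘ₗ LogConn.comp nabla ω b =
      LogConn.comp nabla ω b ∘ₗ LogConn.comp nabla ω a) (i : Fin n) {I : Finset (Fin n)} {x : E}
    (hx : x ∈ LogConn.piece nabla ω t I) :
    LogConn.comp nabla ω i x ∈ LogConn.piece nabla ω t I := by
  induction hx using piece_induction with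
  | mem J hJ e =>
    rw [comp_smul C hc, comp_compProd_comm hcomm]
    refine add_mem (mem_piece_of hJ _) ?_
    by_cases hi : i ∈ I \ J
    · rw [pd_prod_of_mem C hi, mul_smul]
      exact smul_mem_piece C hc _ (mem_piece_of hJ e)
    · rw [pd_prod_eq_zero C hi]
      simp
  | zero => simp
  | add a b _ _ ha hb => rw [map_add]; exact add_mem ha hb

lemma comp_mem_piece_insert (C : Coord δ t ω) (hc : Conn.IsLamConn δ lam nabla)
    (hcomm : ∀ a b, LogConn.comp nabla ω a ∘ₗ LogConn.comp nabla ω b =
      LogConn.comp nabla ω b ∘ₗ LogConn.comp nabla ω a) {i : Fin n} {I : Finset (Fin n)}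
    (hi : i ∉ I) {x : E}
    (hx : x ∈ LogConn.piece nabla ω t I) :
    LogConn.comp nabla ω i x ∈ LogConn.piece nabla ω t (insert i I) := by
  induction hx using piece_induction with
  | mem J hJ e =>
    rw [comp_prod_smul_of_notMem C hc (fun h' => hi (Finset.mem_sdiff.mp h').1)]
    have h1 : LogConn.compProd nabla ω (insert i J) e =
        LogConn.comp nabla ω i (LogConn.compProd nabla ω J e) := by
      rw [compProd_insert hcomm (fun h => hi (hJ h))]; rfl
    rw [← h1]
    have h2 : I \ J = insert i I \ insert i J := by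
      rw [Finset.insert_sdiff_insert, Finset.sdiff_insert_of_notMem hi]
    rw [h2]
    exact mem_piece_of (Finset.insert_subset_insert i hJ) e
  | zero => simp
  | add a b _ _ ha hb => rw [map_add]; exact add_mem ha hb

lemma piece_antitone (C : Coord δ t ω) (hc : Conn.IsLamConn δ lam nabla)
    (hcomm : ∀ a b, LogConn.comp nabla ω a ∘ₗ LogConn.comp nabla ω b =
      LogConn.comp nabla ω b ∘ₗ LogConn.comp nabla ω a) {K I : Finset (Fin n)} (hKI : K ⊆ I) :
    LogConn.piece nabla ω t I ≤ LogConn.piece nabla ω t K := by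
  classical
  intro x hx
  induction hx using piece_induction with
  | mem J hJ e =>
    obtain ⟨e', he'⟩ : ∃ e', LogConn.compProd nabla ω J e =
        LogConn.compProd nabla ω (J ∩ K) e' := by
      clear hJ
      induction J using Finset.induction_on generalizing e with
      | empty => exact ⟨e, by simp⟩
      | insert a J ha ih =>
        by_cases haK : a ∈ K
        · obtain ⟨e', he'⟩ := ih e
          refine ⟨e', ?_⟩
          rw [Finset.insert_inter_of_mem haK, compProd_insert hcomm ha,
            compProd_insert hcomm (fun h => ha (Finset.mem_inter.mp h).1), LinearMap.comp_apply,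
            LinearMap.comp_apply, he']
        · obtain ⟨e', he'⟩ := ih (LogConn.comp nabla ω a e)
          refine ⟨e', ?_⟩
          rw [Finset.insert_inter_of_notMem haK, compProd_insert hcomm ha, LinearMap.comp_apply,
            comp_compProd_comm hcomm, he']
    rw [he']
    have hsub : K \ (J ∩ K) ⊆ I \ J := fun a ha => by
      simp only [Finset.mem_sdiff, Finset.mem_inter] at ha ⊢
      exact ⟨hKI ha.1, fun h => ha.2 ⟨h, ha.1⟩⟩
    rw [← Finset.prod_sdiff hsub, mul_smul]
    exact smul_mem_piece C hc _ (mem_piece_of Finset.inter_subset_right e')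
  | zero => exact zero_mem _
  | add a b _ _ ha hb => exact add_mem ha hb

end Log15
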